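import Mathlib

/-! Finite unramified morphisms with a trivial fibre are closed immersions nearby. -/

set_option autoImplicit false
set_option maxHeartbeats 800000
universe u

noncomputable section

open CategoryTheory AlgebraicGeometry TopologicalSpace

namespace FinUnrLib

theorem exists_smul_mem_range {A B : Type u} [CommRing A] [CommRing B] [Algebra A B] [Module.Finite A B]
    [Algebra.FormallyUnramified A B] (p : Ideal A) [p.IsPrime] (q : Ideal B) [q.IsPrime]
    (hq : q.comap (algebraMap A B) = p)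
    (huniq : ∀ Q : Ideal B, Q.IsPrime → Q.comap (algebraMap A B) = p → Q = q)
    (hres : ∀ b : B, ∃ t ∉ p, ∃ a : A, t • b - algebraMap A B a ∈ q) :
    ∃ g ∉ p, ∀ b : B, ∃ a : A, algebraMap A B a = g • b := by
  haveI : q.LiesOver p := ⟨hq.symm⟩
  let _ : Algebra (Localization.AtPrime p) (Localization.AtPrime q) :=
    Localization.AtPrime.algebraOfLiesOver p q
  haveI : Algebra.EssFiniteType A (Localization.AtPrime q) := Algebra.EssFiniteType.comp A B _
  haveI : Algebra.EssFiniteType (Localization.AtPrime p) (Localization.AtPrime q) := Algebra.EssFiniteType.of_comp A _ _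
  haveI : Algebra.FormallyUnramified A (Localization.AtPrime q) := Algebra.FormallyUnramified.comp A B _
  haveI : Algebra.FormallyUnramified (Localization.AtPrime p) (Localization.AtPrime q) :=
    Algebra.FormallyUnramified.of_restrictScalars A _ _
  let N := LinearMap.range (Algebra.linearMap A B)
  have hclear : ∀ c ∈ q, ∃ t ∉ p, t • c ∈ p.map (algebraMap A B) := by
    intro c hc
    have h1 : algebraMap B (Localization.AtPrime q) c ∈ (p.map (algebraMap A B)).map (algebraMap B (Localization.AtPrime q)) := by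
      have hm : algebraMap B (Localization.AtPrime q) c ∈ IsLocalRing.maximalIdeal (Localization.AtPrime q) := by
        rw [← Localization.AtPrime.map_eq_maximalIdeal]; exact Ideal.mem_map_of_mem _ hc
      rw [← Algebra.FormallyUnramified.map_maximalIdeal (R := Localization.AtPrime p),
        ← Localization.AtPrime.map_eq_maximalIdeal, Ideal.map_map, ← IsScalarTower.algebraMap_eq] at hm
      rwa [Ideal.map_map, ← IsScalarTower.algebraMap_eq]
    obtain ⟨r, hr, hrc⟩ := (IsLocalization.algebraMap_mem_map_algebraMap_iff q.primeCompl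
      (Localization.AtPrime q) _ _).1 h1
    have h2 : ¬ (Ideal.span {r} ⊔ p.map (algebraMap A B)).comap (algebraMap A B) ≤ p := fun hle => by
      obtain ⟨Q, hQI, hQ, hQp⟩ := Ideal.exists_ideal_over_prime_of_isIntegral p _ hle
      have := huniq Q hQ hQp
      subst this
      exact hr (hQI (Ideal.mem_sup_left (Ideal.mem_span_singleton_self r)))
    obtain ⟨t, ht, htp⟩ := SetLike.not_le_iff_exists.1 h2
    refine ⟨t, htp, ?_⟩
    obtain ⟨u, hu, v, hv, huv⟩ := Submodule.mem_sup.1 ht
    obtain ⟨w, rfl⟩ := Ideal.mem_span_singleton'.1 hu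
    rw [Algebra.smul_def, ← huv, add_mul, mul_assoc]
    exact Ideal.add_mem _ (Ideal.mul_mem_left _ w hrc) (Ideal.mul_mem_right c _ hv)
  have hsmul : ∀ m : B ⧸ N, ∃ t ∉ p, t • m ∈ p • (⊤ : Submodule A (B ⧸ N)) := by
    intro m
    obtain ⟨b, rfl⟩ := Submodule.mkQ_surjective N m
    obtain ⟨t, ht, a, ha⟩ := hres b
    obtain ⟨t', ht', hc⟩ := hclear _ ha
    refine ⟨t' * t, fun h => ((inferInstance : p.IsPrime).mem_or_mem h).elim ht' ht, ?_⟩
    have hN : N.mkQ (algebraMap A B a) = 0 := (Submodule.Quotient.mk_eq_zero N).2 ⟨a, rfl⟩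
    have : (t' * t) • N.mkQ b = N.mkQ (t' • (t • b - algebraMap A B a)) := by
      rw [map_smul, map_sub, map_smul, hN, sub_zero, mul_smul]
    rw [this]
    have hc' : t' • (t • b - algebraMap A B a) ∈ p • (⊤ : Submodule A B) := by
      rw [Ideal.smul_top_eq_map]
      exact hc
    have := Submodule.mem_map_of_mem (f := N.mkQ) hc'
    rw [Submodule.map_smul'', Submodule.map_top, Submodule.range_mkQ] at this
    exact this
  obtain ⟨S, hS⟩ := Module.Finite.fg_top (R := A) (M := B ⧸ N)
  choose t ht htm using hsmul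
  let T := ∏ m ∈ S, t m
  have hT : T ∉ p := fun h => by
    obtain ⟨m, -, hm⟩ := (Ideal.IsPrime.prod_mem_iff (p := p)).1 h
    exact ht m hm
  have hTle : LinearMap.range (T • LinearMap.id : B ⧸ N →ₗ[A] B ⧸ N) ≤ p • (⊤ : Submodule A (B ⧸ N)) := by
    rintro _ ⟨m, rfl⟩
    have hm : m ∈ Submodule.span A (S : Set (B ⧸ N)) := hS ▸ Submodule.mem_top
    induction hm using Submodule.span_induction with
    | mem x hx =>
      obtain ⟨c, hc⟩ := Finset.dvd_prod_of_mem t (Finset.mem_coe.1 hx)
      show T • x ∈ _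
      rw [show T = c * t x from hc.trans (mul_comm _ _), mul_smul]
      exact Submodule.smul_mem _ _ (htm x)
    | zero => simp
    | add x y _ _ hx hy => rw [map_add]; exact add_mem hx hy
    | smul c x _ hx => rw [map_smul]; exact Submodule.smul_mem _ _ hx
  obtain ⟨P, hPm, -, hPc, hP0⟩ := LinearMap.exists_monic_and_natDegree_eq_and_coeff_mem_pow_and_aeval_eq_zero A
    (T • LinearMap.id : Module.End A (B ⧸ N)) p hTle
  refine ⟨P.eval T, fun he => ?_, fun b => ?_⟩
  · have hlow : ∀ i ∈ Finset.range P.natDegree, P.coeff i * T ^ i ∈ p := fun i hi =>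
      Ideal.mul_mem_right _ _ (Ideal.pow_le_self (by have := Finset.mem_range.1 hi; omega) (hPc i))
    rw [Polynomial.eval_eq_sum_range, Finset.sum_range_succ, hPm.coeff_natDegree, one_mul] at he
    exact hT ((inferInstance : p.IsPrime).mem_of_pow_mem _
      ((p.add_mem_iff_right (Ideal.sum_mem _ hlow)).1 he))
  · have h : Polynomial.aeval (algebraMap A (Module.End A (B ⧸ N)) T) P = 0 := by
      rw [Algebra.algebraMap_eq_smul_one]; exact hP0
    rw [Polynomial.aeval_algebraMap_apply] at h
    have h' := LinearMap.congr_fun h (N.mkQ b)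
    rw [Module.algebraMap_end_apply, LinearMap.zero_apply, ← map_smul, Submodule.mkQ_apply,
      Submodule.Quotient.mk_eq_zero] at h'
    obtain ⟨a, ha⟩ := h'
    exact ⟨a, by simpa using ha⟩

theorem exists_closedImmersion_nhd {X S : Scheme.{u}} (f : X ⟶ S) [IsFinite f] [FormallyUnramified f] (s : S)
    (x : X) (hx : f.base ⁻¹' {s} = {x}) (hκ : Function.Surjective (f.residueFieldMap x)) :
    ∃ U : S.Opens, s ∈ U ∧ IsClosedImmersion (f ∣_ U) := by
  obtain ⟨U, hU, hsU, -⟩ := exists_isAffineOpen_mem_and_subset (x := s) (U := ⊤) trivial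
  have hfx : f x = s := hx.ge (rfl : x ∈ ({x} : Set X))
  have hV : IsAffineOpen (f ⁻¹ᵁ U) := hU.preimage f
  let A := Γ(S, U)
  let B := Γ(X, f ⁻¹ᵁ U)
  letI := (f.app U).hom.toAlgebra
  haveI : Module.Finite A B := RingHom.finite_algebraMap.1 (f.finite_app U hU)
  haveI : Algebra.FormallyUnramified A B := by
    have := f.formallyUnramified_appLE hU hV le_rfl
    rw [Scheme.Hom.appLE_eq_app] at this
    exact RingHom.formallyUnramified_algebraMap.1 this
  have hxV : x ∈ f ⁻¹ᵁ U := by show f x ∈ U; rw [hfx]; exact hsU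
  let p := (hU.primeIdealOf ⟨s, hsU⟩).asIdeal
  let q := (hV.primeIdealOf ⟨x, hxV⟩).asIdeal
  have hcomp : ∀ Q : PrimeSpectrum B, f (hV.fromSpec Q) = hU.fromSpec (Spec.map (f.app U) Q) := fun Q => by
    rw [← Scheme.Hom.comp_apply, ← Scheme.Hom.comp_apply, ← Scheme.Hom.appLE_eq_app, IsAffineOpen.SpecMap_appLE_fromSpec]
  have huniq : ∀ Q : Ideal B, Q.IsPrime → Q.comap (algebraMap A B) = p → Q = q := by
    intro Q hQ hQp
    have h1 : Spec.map (f.app U) (⟨Q, hQ⟩ : PrimeSpectrum B) = hU.primeIdealOf ⟨s, hsU⟩ := PrimeSpectrum.ext hQp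
    have h2 : hV.fromSpec (⟨Q, hQ⟩ : PrimeSpectrum B) ∈ f.base ⁻¹' {s} := by
      show f _ = s
      rw [hcomp, h1, hU.fromSpec_primeIdealOf]
    rw [hx] at h2
    exact congrArg PrimeSpectrum.asIdeal
      (hV.fromSpec.isOpenEmbedding.injective (h2.trans (hV.fromSpec_primeIdealOf ⟨x, hxV⟩).symm))
  have hqp : q.comap (algebraMap A B) = p := by
    refine congrArg PrimeSpectrum.asIdeal (hU.fromSpec.isOpenEmbedding.injective ?_ :
      Spec.map (f.app U) (hV.primeIdealOf ⟨x, hxV⟩) = hU.primeIdealOf ⟨s, hsU⟩)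
    rw [← hcomp, hV.fromSpec_primeIdealOf, hU.fromSpec_primeIdealOf]
    exact hfx
  have hres : ∀ b : B, ∃ t ∉ p, ∃ a : A, t • b - algebraMap A B a ∈ q := by
    intro b
    letI : Algebra A (S.presheaf.stalk (f x)) := (S.presheaf.germ U (f x) hxV).hom.toAlgebra
    haveI := hU.isLocalization_stalk ⟨f x, hxV⟩
    letI : Algebra B (X.presheaf.stalk x) := (X.presheaf.germ (f ⁻¹ᵁ U) x hxV).hom.toAlgebra
    haveI := hV.isLocalization_stalk ⟨x, hxV⟩
    have hp : (hU.primeIdealOf ⟨f x, hxV⟩).asIdeal = p := by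
      show _ = (hU.primeIdealOf ⟨s, hsU⟩).asIdeal
      congr 3
    obtain ⟨c, hc⟩ := hκ (X.residue x (algebraMap B _ b))
    obtain ⟨c, rfl⟩ := S.residue_surjective _ c
    obtain ⟨a, ⟨t, ht⟩, rfl⟩ := IsLocalization.exists_mk'_eq (hU.primeIdealOf ⟨f x, hxV⟩).asIdeal.primeCompl c
    refine ⟨t, hp ▸ ht, a, ?_⟩
    refine (IsLocalization.AtPrime.to_map_mem_maximal_iff (X.presheaf.stalk x) q _).1 ?_
    have hc' : X.residue x (f.stalkMap x (IsLocalization.mk' _ a ⟨t, ht⟩)) = X.residue x (algebraMap B _ b) := by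
      refine Eq.trans ?_ hc
      rw [← CommRingCat.comp_apply, ← Scheme.residue_residueFieldMap]
      rfl
    have hn : ∀ z : A, f.stalkMap x (algebraMap A (S.presheaf.stalk (f x)) z) =
        algebraMap B (X.presheaf.stalk x) (algebraMap A B z) := fun z =>
      Scheme.Hom.germ_stalkMap_apply f U x hxV z
    rw [← IsLocalRing.residue_eq_zero_iff, Algebra.smul_def, map_sub, map_mul, ← hn, ← hn,
      ← IsLocalization.mk'_spec' (S.presheaf.stalk (f x)) a ⟨t, ht⟩, map_sub, sub_eq_zero]
    erw [map_mul, map_mul, map_mul]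
    congr 1
    exact hc'.symm
  obtain ⟨g, hg, hgb⟩ := exists_smul_mem_range p q hqp huniq hres
  let W := S.basicOpen g
  have hW : IsAffineOpen W := hU.basicOpen g
  refine ⟨W, ?_, ?_⟩
  · have : hU.primeIdealOf ⟨s, hsU⟩ ∈ hU.fromSpec ⁻¹ᵁ W := by
      rw [hU.fromSpec_preimage_basicOpen]; exact hg
    have e := hU.fromSpec_primeIdealOf ⟨s, hsU⟩
    exact (congrArg (· ∈ W) e).mp this
  · haveI : IsAffine (W : Scheme.{u}) := hW
    refine (HasAffineProperty.iff_of_isAffine (P := @IsClosedImmersion)).2 ⟨hW.preimage f, ?_⟩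
    rw [morphismRestrict_appTop]
    have happ : ∀ W' : S.Opens, W' = W → Function.Surjective (f.app W') := by
      rintro _ rfl z
      haveI hloc : IsLocalization.Away (f.app U g) Γ(X, X.basicOpen (f.app U g)) :=
        hV.isLocalization_basicOpen (f.app U g)
      have he : f ⁻¹ᵁ W = X.basicOpen (f.app U g) := Scheme.preimage_basicOpen f g
      obtain ⟨⟨b, ⟨_, n, rfl⟩⟩, hb⟩ := IsLocalization.surj (Submonoid.powers (f.app U g))
        ((X.presheaf.map (eqToHom he.symm).op) z)
      obtain ⟨a, ha⟩ := hgb b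
      haveI : IsLocalization.Away g Γ(S, W) := hU.isLocalization_basicOpen g
      refine ⟨IsLocalization.mk' Γ(S, W) a (⟨g ^ (n + 1), n + 1, rfl⟩ : Submonoid.powers g), ?_⟩
      have hinj : Function.Injective (X.presheaf.map (eqToHom he.symm).op) :=
        (ConcreteCategory.bijective_of_isIso _).1
      refine hinj ?_
      have hn : ∀ c : A, (X.presheaf.map (eqToHom he.symm).op) (f.app W (algebraMap A Γ(S, W) c)) =
          algebraMap B Γ(X, X.basicOpen (f.app U g)) (f.app U c) := fun c => by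
        show (X.presheaf.map (eqToHom he.symm).op) (f.app W ((S.presheaf.map (homOfLE (S.basicOpen_le g)).op) c)) = _
        rw [← CommRingCat.comp_apply, ← CommRingCat.comp_apply, ← Category.assoc, f.naturality, Category.assoc,
          ← X.presheaf.map_comp]
        rfl
      have hu : IsUnit ((algebraMap B Γ(X, X.basicOpen (f.app U g))) (f.app U g ^ (n + 1))) := by
        rw [map_pow]; exact (IsLocalization.Away.algebraMap_isUnit (f.app U g)).pow _
      refine hu.mul_left_inj.1 ?_
      rw [← map_pow (f.app U).hom g (n + 1), ← hn (g ^ (n + 1)), ← map_mul, ← map_mul]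
      erw [IsLocalization.mk'_spec]
      rw [hn, hn, show f.app U a = f.app U g * b from ha.trans (Algebra.smul_def g b), map_mul,
        map_pow, map_pow, pow_succ, ← mul_assoc, ← map_pow, hb, mul_comm]
    exact (ConcreteCategory.bijective_of_isIso (X.presheaf.map (eqToHom (image_morphismRestrict_preimage f W ⊤)).op)).2.comp
      (happ _ W.ι_image_top)

end FinUnrLib
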